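import Groth.Agent.GrpScheme.ClosedRepProd
import Groth.Agent.GrpScheme.SubgroupObj
import Groth.Agent.GrpScheme.Basic
import Mathlib.AlgebraicGeometry.Morphisms.ClosedImmersion

/-!
# Transporters into closed subschemes over a field

For `f : X ×_k Y ⟶ W` and a closed subscheme `E` of `W` the points `x` of `X` with `f (x, y) ∈ E`
for every point `y` of `Y` form a closed subscheme of `X`.
-/

set_option autoImplicit false
universe u

open CategoryTheory MonoidalCategory CartesianMonoidalCategory MonObj GrpObj AlgebraicGeometry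
  Limits

namespace Groth.Agent.TransRep27

open Groth.Agent.GrpScheme

/-- A morphism of `Over` which is a monomorphism of schemes is a monomorphism. -/
lemma mono_of_mono_left {S : Scheme.{u}} {A B : Over S} (f : A ⟶ B) [Mono f.left] : Mono f :=
  ⟨fun _ _ h => Over.OverMorphism.ext ((cancel_mono f.left).1 (congrArg Over.Hom.left h))⟩

variable {K : Type u} [Field K]

/-- Morphisms to a closed subscheme defined on all products with a fixed scheme. -/
theorem exists_mapsInto {X Y W E : Over (Spec (CommRingCat.of K))} (f : X ⊗ Y ⟶ W) (e : E ⟶ W)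
    [IsClosedImmersion e.left] :
    ∃ (Z : Over (Spec (CommRingCat.of K))) (i : Z ⟶ X), IsClosedImmersion i.left ∧
      ∀ (T : Over (Spec (CommRingCat.of K))) (x : T ⟶ X), (∃ z : T ⟶ Z, z ≫ i = x) ↔
        ∀ (T' : Over (Spec (CommRingCat.of K))) (s : T' ⟶ T) (y : T' ⟶ Y),
          ∃ l : T' ⟶ E, l ≫ e = lift (s ≫ x) y ≫ f := by
  let e' : pullback f.left e.left ⟶ pullback X.hom Y.hom := pullback.fst f.left e.left
  have : IsClosedImmersion e' :=
    MorphismProperty.pullback_fst (P := @IsClosedImmersion) _ _ inferInstance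
  obtain ⟨Z, i, hi, hZ⟩ :=
    ClosedRepProd.exists_closed X.hom Y.hom e' (ClosedRepProd.locallyFree_of_field Y.hom)
  refine ⟨Over.mk (i ≫ X.hom), Over.homMk i rfl, hi, fun T x => ⟨?_, fun h => ?_⟩⟩
  · rintro ⟨z, rfl⟩ T' s y
    have hc := (hZ _ _).2 ⟨z.left, rfl⟩
    let q : T' ⟶ X ⊗ Y := lift (s ≫ z ≫ Over.homMk i rfl) y
    obtain ⟨l, hl⟩ := hc q.left s.left (by
      rw [show pullback.fst X.hom Y.hom = (fst X Y).left from rfl, ← Over.comp_left, lift_fst]
      rfl)
    have hl' : (l ≫ pullback.snd f.left e.left) ≫ e.left = q.left ≫ f.left := by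
      rw [Category.assoc, ← pullback.condition, reassoc_of% hl]
    refine ⟨Over.homMk (l ≫ pullback.snd f.left e.left) ?_, Over.OverMorphism.ext hl'⟩
    show (l ≫ pullback.snd f.left e.left) ≫ E.hom = T'.hom
    rw [← Over.w e, ← Category.assoc, hl', Category.assoc, Over.w f, Over.w q]
  · have hc : ClosedRepProd.Cond X.hom Y.hom e' x.left := by
      intro Q q q' hq
      let T' : Over (Spec (CommRingCat.of K)) := Over.mk (q' ≫ T.hom)
      let qq : T' ⟶ X ⊗ Y := Over.homMk q (by
        show q ≫ pullback.fst X.hom Y.hom ≫ X.hom = q' ≫ T.hom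
        rw [reassoc_of% hq, Over.w x])
      obtain ⟨l, hl⟩ := h T' (Over.homMk q' rfl) (qq ≫ snd X Y)
      have hqq : lift ((Over.homMk q' rfl : T' ⟶ T) ≫ x) (qq ≫ snd X Y) = qq :=
        CartesianMonoidalCategory.hom_ext _ _ (by
          rw [lift_fst]; exact Over.OverMorphism.ext hq.symm) (by rw [lift_snd])
      rw [hqq] at hl
      exact ⟨pullback.lift q l.left (congrArg Over.Hom.left hl).symm, pullback.lift_fst _ _ _⟩
    obtain ⟨z, hz⟩ := (hZ _ _).1 hc
    refine ⟨Over.homMk z ?_, Over.OverMorphism.ext hz⟩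
    show z ≫ i ≫ X.hom = T.hom
    rw [reassoc_of% hz, Over.w x]

/-- Group schemes over a field are separated. -/
lemma isClosedImmersion_diag (G : Over (Spec (CommRingCat.of K))) [GrpObj G] :
    IsClosedImmersion (lift (𝟙 G) (𝟙 G)).left :=
  have h : IsClosedImmersion (pullback.diagonal G.hom) :=
    Basic.diagonal_mem @IsClosedImmersion inferInstance
  h

/-- Equations on all products with a fixed scheme define a closed subscheme. -/
theorem exists_equalizer {G X Y : Over (Spec (CommRingCat.of K))} [GrpObj G] (f g : X ⊗ Y ⟶ G) :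
    ∃ (Z : Over (Spec (CommRingCat.of K))) (i : Z ⟶ X), IsClosedImmersion i.left ∧
      ∀ (T : Over (Spec (CommRingCat.of K))) (x : T ⟶ X), (∃ z : T ⟶ Z, z ≫ i = x) ↔
        ∀ (T' : Over (Spec (CommRingCat.of K))) (s : T' ⟶ T) (y : T' ⟶ Y),
          lift (s ≫ x) y ≫ f = lift (s ≫ x) y ≫ g := by
  have := isClosedImmersion_diag G
  obtain ⟨Z, i, hi, hZ⟩ := exists_mapsInto (lift f g) (lift (𝟙 G) (𝟙 G))
  refine ⟨Z, i, hi, fun T x => (hZ T x).trans (forall_congr' fun T' => forall_congr' fun s =>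
    forall_congr' fun y => ?_)⟩
  constructor
  · rintro ⟨l, hl⟩
    have h₁ := congrArg (· ≫ fst G G) hl
    have h₂ := congrArg (· ≫ snd G G) hl
    simp only [Category.assoc, lift_fst, lift_snd, Category.comp_id] at h₁ h₂
    rw [← h₁, ← h₂]
  · intro h
    exact ⟨lift (s ≫ x) y ≫ f, CartesianMonoidalCategory.hom_ext _ _ (by simp) (by simp [h])⟩

/-- A closed subscheme whose points form subgroups is a closed subgroup scheme. -/
theorem exists_grpObj_of_points {G Z : Over (Spec (CommRingCat.of K))} [GrpObj G] (i : Z ⟶ G)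
    [IsClosedImmersion i.left] (p : ∀ T : Over (Spec (CommRingCat.of K)), Subgroup (T ⟶ G))
    (hp : ∀ T (x : T ⟶ G), (∃ z : T ⟶ Z, z ≫ i = x) ↔ x ∈ p T) :
    ∃ _ : GrpObj Z, IsMonHom i := by
  have := mono_of_mono_left i
  refine SubgroupObj.exists_grpObj i ?_ ?_ ?_
  · rw [hp, show (i ⊗ₘ i) ≫ μ[G] = (fst Z Z ≫ i) * (snd Z Z ≫ i) by
      rw [Hom.mul_def, ← lift_map, lift_fst_snd, Category.id_comp]]
    exact (p _).mul_mem ((hp _ _).1 ⟨_, rfl⟩) ((hp _ _).1 ⟨_, rfl⟩)
  · rw [hp, show η[G] = (1 : 𝟙_ _ ⟶ G) by simp [Hom.one_def]]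
    exact (p _).one_mem
  · rw [hp, ← Hom.inv_def]
    exact (p _).inv_mem ((hp _ _).1 ⟨𝟙 Z, Category.id_comp i⟩)

end Groth.Agent.TransRep27
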